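import Cfsg.Agent.ChevSimple.Basic

/-!
# Perfectness of the Chevalley groups

By conjugation with the `n_p` it is enough to treat the fundamental roots, and for these the torus or
one instance of the commutator formula with a single term suffices.
-/

set_option autoImplicit false

namespace CfsgLib.ChevSimple

open Cfsg.Lie CfsgLib.Chevalley
open scoped MatrixGroups commutatorElement

variable {D : ChevalleyDatum} {F : Type*} [Field F]

/-- The root `p_i + p_j` and the root `-p_j` give `p_i` by a one-term formula with coefficient `±m`. -/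
def singleComm (D : ChevalleyDatum) (i m : ℕ) : Bool :=
  (List.range D.rank).any fun j =>
    let r := reflT D i (D.simple j)
    let s := opp D (D.simple j)
    decide (r < D.nroots) && decide (s < D.nroots) && (s != r) && (s != opp D r) &&
      match D.commTerms r s with
      | [(k, c, a, b)] => (k == D.simple i) && (a == 1) && (b == 1) && (c.natAbs == m)
      | _ => false

/-- Some fundamental coroot takes an odd value on the `i`-th fundamental root. -/
def oddCartan (D : ChevalleyDatum) (i : ℕ) : Bool :=
  (List.range D.rank).any fun j => (cartanT D j (D.simple i)).natAbs % 2 == 1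

/-- Perfectness certificate for all fields. -/
def chkPerfectAll (D : ChevalleyDatum) : Bool :=
  (List.range D.rank).all fun i => singleComm D i 1

/-- Perfectness certificate for fields with more than two elements. -/
def chkPerfectBig (D : ChevalleyDatum) : Bool :=
  (List.range D.rank).all fun i => oddCartan D i || singleComm D i 2

theorem singleComm_spec (hD : Good D) {i : Fin D.rank} {m : ℕ} (h : singleComm D i m = true) :
    ∃ (r s : Root D) (c : ℤ), s ≠ r ∧ s ≠ r.rev ∧ c.natAbs = m ∧
      D.commTerms r s = [(D.simple i, c, 1, 1)] := by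
  simp only [singleComm, List.any_eq_true, List.mem_range, Bool.and_eq_true, decide_eq_true_eq,
    bne_iff_ne] at h
  obtain ⟨j, -, ⟨⟨⟨hr, hs⟩, h1⟩, h2⟩, h3⟩ := h
  split at h3
  · rename_i k c a b heq
    simp only [Bool.and_eq_true, beq_iff_eq] at h3
    obtain ⟨⟨⟨rfl, rfl⟩, rfl⟩, rfl⟩ := h3
    refine ⟨⟨_, hr⟩, ⟨_, hs⟩, c, fun e => h1 (congrArg Fin.val e), fun e => h2 ?_, rfl, heq⟩
    have := congrArg Fin.val e
    rw [Fin.val_rev] at this
    simp only [opp] at this ⊢
    omega
  · simp at h3

theorem oddCartan_spec (hD : Good D) {i : Fin D.rank} (h : oddCartan D i = true) :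
    ∃ j : Fin D.rank, Odd (D.cartan j (D.simple i)) := by
  simp only [oddCartan, List.any_eq_true, List.mem_range, beq_iff_eq] at h
  obtain ⟨j, hj, h⟩ := h
  rw [hD.cartanT_eq hj (hD.simple_lt i.isLt)] at h
  exact ⟨⟨j, hj⟩, Int.natAbs_odd.1 (Nat.odd_iff.2 h)⟩

/-- The derived subgroup of `D.group F` inside the general linear group. -/
abbrev derived (D : ChevalleyDatum) (F : Type*) [Field F] : Subgroup (GL D.Idx F) :=
  ⁅D.group F, D.group F⁆

theorem derived_le : derived D F ≤ D.group F := Subgroup.commutator_le.2 fun a ha b hb => by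
  rw [commutatorElement_def]
  exact mul_mem (mul_mem (mul_mem ha hb) (inv_mem ha)) (inv_mem hb)

theorem conj_mem_derived {g k : GL D.Idx F} (hg : g ∈ D.group F) (hk : k ∈ derived D F) :
    g * k * g⁻¹ ∈ derived D F := by
  rw [show g * k * g⁻¹ = ⁅g, k⁆ * k by rw [commutatorElement_def]; group]
  exact mul_mem (Subgroup.commutator_mem_commutator hg (derived_le hk)) hk

theorem X_mem_derived_of_chi (hW : GoodWeyl D) (c : Fin D.rank → Fˣ) {r : Root D}
    (hne : (chi c r : F) ≠ 1) (t : F) : X hW.good r t ∈ derived D F := by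
  have hd : (chi c r : F) - 1 ≠ 0 := sub_ne_zero.2 hne
  have h : ⁅torC D c, X hW.good r (t / ((chi c r : F) - 1))⁆ = X hW.good r t := by
    rw [commutatorElement_def, torC_conj_X, X_inv, X_mul]
    congr 1
    field_simp
    ring
  rw [← h]
  exact Subgroup.commutator_mem_commutator (torC_mem_group hW c) (X_mem_group hW.good _ _)

theorem X_mem_derived_of_odd (hW : GoodWeyl D) (h2 : (2 : F) ≠ 0) {i j : Fin D.rank}
    (h : Odd (D.cartan j (D.simple i))) (t : F) : X hW.good (pRoot hW i) t ∈ derived D F := by
  refine X_mem_derived_of_chi hW (Function.update 1 j (-1)) ?_ t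
  rw [chi, Finset.prod_eq_single j (fun k _ hk => by simp [Function.update_of_ne hk])
    (fun hj => absurd (Finset.mem_univ j) hj)]
  rw [Function.update_self, show ((pRoot hW i : Root D) : ℕ) = D.simple i from rfl, h.neg_one_zpow]
  intro e
  rw [Units.val_neg, Units.val_one] at e
  exact h2 (by linear_combination -e)

theorem X_mem_derived_of_single (hW : GoodWeyl D) {r s : Root D} {c : ℤ} (hsr : s ≠ r)
    (hne : s ≠ r.rev) {k : Root D} (hterms : D.commTerms r s = [((k : ℕ), c, 1, 1)])
    (hc : (c : F) ≠ 0) (v : F) : X hW.good k v ∈ derived D F := by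
  have hC : GoodComm D := hW.toGoodComm
  have h := X_comm hC (R := F) r s hsr hne (-(v / (c : F))) 1
  have hrhs : commRhs hC.good r s (-(v / (c : F))) (1 : F) = X hW.good k v := by
    rw [commRhs, hterms]
    simp [wordGL]
    congr 1
    field_simp
  rw [hrhs] at h
  have h' : X hW.good k v = ⁅(X hW.good s (1 : F))⁻¹, (X hW.good r (-(v / (c : F))))⁻¹⁆ := by
    rw [commutatorElement_def, inv_inv, inv_inv]
    rw [show (X hW.good s (1 : F))⁻¹ * (X hW.good r (-(v / (c : F))))⁻¹ * X hW.good s 1 *
      X hW.good r (-(v / (c : F))) = (X hW.good s (1 : F))⁻¹ * (X hW.good r (-(v / (c : F))))⁻¹ *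
        (X hW.good s 1 * X hW.good r (-(v / (c : F)))) by group, h]
    group
  rw [h']
  exact Subgroup.commutator_mem_commutator (inv_mem (X_mem_group hW.good _ _))
    (inv_mem (X_mem_group hW.good _ _))

theorem commutator_eq_top_of_simple (hW : GoodWeyl D)
    (h : ∀ (i : Fin D.rank) (t : F), X hW.good (pRoot hW i) t ∈ derived D F) :
    commutator ↥(D.group F) = ⊤ := by
  have hall : ∀ (r : Root D) (t : F), X hW.good r t ∈ derived D F := by
    intro r
    refine hW.root_induction (P := fun r => ∀ t : F, X hW.good r t ∈ derived D F) h ?_ r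
    intro i r hr t
    have h1 := conj_mem_derived (nR_mem hW i).1 (hr (t / (eta D i r : F)))
    rwa [nR_conj, mul_div_cancel₀ _ (eta_ne_zero hW i r)] at h1
  have hle : D.group F ≤ derived D F := by
    conv_lhs => rw [group_eq_closure hW.good]
    rw [Subgroup.closure_le]
    rintro _ ⟨r, t, rfl⟩
    exact hall r t
  refine Subgroup.map_injective (f := (D.group F).subtype) Subtype.val_injective ?_
  rw [commutator_def, Subgroup.map_commutator, ← MonoidHom.range_eq_map, Subgroup.range_subtype]
  exact le_antisymm derived_le hle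

/-- Perfectness over every field. -/
theorem commutator_eq_top_of_all (hW : GoodWeyl D) (hc : chkPerfectAll D = true) :
    commutator ↥(D.group F) = ⊤ := by
  refine commutator_eq_top_of_simple hW fun i t => ?_
  simp only [chkPerfectAll, List.all_eq_true, List.mem_range] at hc
  obtain ⟨r, s, c, h1, h2, h3, h4⟩ := singleComm_spec hW.good (hc i i.isLt)
  refine X_mem_derived_of_single hW h1 h2 (k := pRoot hW i) h4 ?_ t
  rcases Int.natAbs_eq c with h | h <;> rw [h, h3] <;> simp

/-- Perfectness over fields with more than two elements. -/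
theorem commutator_eq_top_of_big (hW : GoodWeyl D) (hc : chkPerfectBig D = true)
    (hF : ∃ a : F, a ≠ 0 ∧ a ≠ 1) : commutator ↥(D.group F) = ⊤ := by
  refine commutator_eq_top_of_simple hW fun i t => ?_
  by_cases hsq : ∃ a : F, a ≠ 0 ∧ a ^ 2 ≠ 1
  · obtain ⟨a, ha0, ha⟩ := hsq
    refine X_mem_derived_of_chi hW (Function.update 1 i (Units.mk0 a ha0)) ?_ t
    rw [chi, Finset.prod_eq_single i (fun k _ hk => by simp [Function.update_of_ne hk])
      (fun hj => absurd (Finset.mem_univ i) hj), Function.update_self,
      show ((pRoot hW i : Root D) : ℕ) = D.simple i from rfl, hW.good.cartan_simple_self i.isLt]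
    simpa [zpow_ofNat] using ha
  push Not at hsq
  have h2 : (2 : F) ≠ 0 := by
    intro h2
    obtain ⟨a, ha0, ha1⟩ := hF
    rcases sq_eq_one_iff.1 (hsq a ha0) with h | h
    · exact ha1 h
    · exact ha1 (by linear_combination h - h2)
  simp only [chkPerfectBig, List.all_eq_true, List.mem_range, Bool.or_eq_true] at hc
  rcases hc i i.isLt with h | h
  · obtain ⟨j, hj⟩ := oddCartan_spec hW.good h
    exact X_mem_derived_of_odd hW h2 hj t
  · obtain ⟨r, s, c, h1, h2', h3, h4⟩ := singleComm_spec hW.good h
    refine X_mem_derived_of_single hW h1 h2' (k := pRoot hW i) h4 ?_ t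
    rcases Int.natAbs_eq c with h | h <;> rw [h, h3] <;> simp [h2]

end CfsgLib.ChevSimple
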