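import Cfsg.Agent.ChevSimple.Perfect
import Cfsg.Prelude.Def_ChevB2
import Cfsg.Prelude.Def_ChevD4
import Cfsg.Prelude.Def_ChevE6
import Cfsg.Prelude.Def_ChevE7
import Cfsg.Prelude.Def_ChevE8
import Cfsg.Prelude.Def_ChevF4
import Cfsg.Prelude.Def_ChevG2

/-!
# Certificates of the seven data
-/

set_option autoImplicit false

namespace CfsgLib.ChevSimple

open Cfsg.Lie CfsgLib.Chevalley

/-- The reflections in two fundamental roots do not commute. -/
def linked (D : ChevalleyDatum) (i j : ℕ) : Bool :=
  reflT D i (reflT D j (D.simple j)) != reflT D j (reflT D i (D.simple j))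

/-- The fundamental roots reached from the first in `k` steps. -/
def reachSet (D : ChevalleyDatum) : ℕ → List ℕ
  | 0 => [0]
  | k + 1 =>
    let L := reachSet D k
    (List.range D.rank).filter fun j => L.contains j || L.any fun i => linked D i j

/-- The diagram is connected. -/
def chkIrr (D : ChevalleyDatum) : Bool :=
  (List.range D.rank).all fun j => (reachSet D D.rank).contains j

theorem reachSet_invariant (D : ChevalleyDatum) (Q : ℕ → Prop)
    (hQ : ∀ i j, i < D.rank → j < D.rank → linked D i j = true → (Q i ↔ Q j)) :
    ∀ k, ∀ j ∈ reachSet D k, j < D.rank → (Q j ↔ Q 0) := by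
  intro k
  induction k with
  | zero => intro j hj _; simp [reachSet] at hj; rw [hj]
  | succ k ih =>
    intro j hj hjr
    simp only [reachSet, List.mem_filter, List.mem_range, Bool.or_eq_true, List.any_eq_true,
      List.contains_iff_mem] at hj
    rcases hj.2 with h | ⟨i, hi, hij⟩
    · exact ih j h hjr
    · have hir : i < D.rank := by
        cases k with
        | zero => simp [reachSet] at hi; omega
        | succ k => simp only [reachSet, List.mem_filter, List.mem_range] at hi; exact hi.1
      exact (hQ i j hir hjr hij).symm.trans (ih i hi hir)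

set_option maxRecDepth 4000 in
theorem chkPerfectAll_of_mem {D : ChevalleyDatum}
    (hD : D ∈ [chevD4, chevF4, chevE6, chevE7, chevE8]) : chkPerfectAll D = true := by
  simp only [List.mem_cons, List.not_mem_nil, or_false] at hD
  rcases hD with rfl | rfl | rfl | rfl | rfl <;> decide +kernel

set_option maxRecDepth 4000 in
theorem chkPerfectBig_of_mem {D : ChevalleyDatum} (hD : D ∈ [chevG2, chevB2]) :
    chkPerfectBig D = true := by
  simp only [List.mem_cons, List.not_mem_nil, or_false] at hD
  rcases hD with rfl | rfl <;> decide +kernel

set_option maxRecDepth 4000 in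
theorem chkIrr_of_mem {D : ChevalleyDatum}
    (hD : D ∈ [chevG2, chevB2, chevD4, chevF4, chevE6, chevE7, chevE8]) : chkIrr D = true := by
  simp only [List.mem_cons, List.not_mem_nil, or_false] at hD
  rcases hD with rfl | rfl | rfl | rfl | rfl | rfl | rfl <;> decide +kernel

end CfsgLib.ChevSimple
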