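import Cfsg.Agent.ChevSimple.Basic
import Cfsg.Agent.ChevSimple.Data
import Cfsg.Agent.Chevalley.Borel
import Cfsg.Agent.BNPairs.Simplicity

/-!
# Simplicity of a Chevalley group from its (B, N)-pair
-/

set_option autoImplicit false

namespace CfsgLib.ChevSimple

open Cfsg.Lie CfsgLib.Chevalley
open scoped MatrixGroups commutatorElement

variable {D : ChevalleyDatum} {F : Type*} [Field F]

theorem not_linked_of_mem_borel (hW : GoodWeyl D)
    (hBN : D.borelSubgroup F ⊓ D.monomialSubgroup F ≤ D.diagonalSubgroup F) {i j : Fin D.rank}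
    (h : (nR hW i : GL D.Idx F) * nR hW j * (nR hW i)⁻¹ * (nR hW j)⁻¹ ∈ D.borelSubgroup F) :
    linked D i j = false ∧ linked D j i = false := by
  have hi := monBy_nR (F := F) hW i
  have hj := monBy_nR (F := F) hW j
  have hz := ((hi.mul hj).mul hi.inv).mul hj.inv
  have hmem : (nR hW i : GL D.Idx F) * nR hW j * (nR hW i)⁻¹ * (nR hW j)⁻¹ ∈
      D.diagonalSubgroup F :=
    hBN (Subgroup.mem_inf.2 ⟨h, mul_mem (mul_mem (mul_mem (nR_mem_monomial hW i) (nR_mem_monomial hW j))
      (inv_mem (nR_mem_monomial hW i))) (inv_mem (nR_mem_monomial hW j))⟩)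
  have h1 := hz.unique (monBy_diag hW hmem)
  rw [mul_inv_eq_one, mul_inv_eq_iff_eq_mul] at h1
  have key : ∀ s : Root D, reflT D i (reflT D j s) = reflT D j (reflT D i s) := fun s =>
    congrArg Fin.val (Equiv.ext_iff.1 h1 s)
  simp only [linked, bne_eq_false_iff_eq]
  exact ⟨key (pRoot hW j), (key (pRoot hW i)).symm⟩

variable (F) in
/-- The element `n_i` of the Chevalley group. -/
def nG (hW : GoodWeyl D) (i : Fin D.rank) : ↥(D.group F) := ⟨nR hW i, (nR_mem hW i).1⟩

theorem irreducible_of_bnPair (hW : GoodWeyl D) (hc : chkIrr D = true)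
    (hBN : D.borelSubgroup F ⊓ D.monomialSubgroup F ≤ D.diagonalSubgroup F)
    (P : Cfsg.BNPair ↥(D.group F)) (hB : P.B = (D.borelSubgroup F).subgroupOf (D.group F))
    (hS : P.S = {n : ↥(D.group F) | ∃ i < D.rank,
      ((n : GL D.Idx F) : Matrix D.Idx D.Idx F) = D.nMat F (D.simple i) 1}) : P.Irreducible := by
  have hmemS : ∀ i, nG F hW i ∈ P.S := fun i => by
    rw [hS]; exact ⟨i, i.isLt, coe_nR hW i⟩
  have hform : ∀ s ∈ P.S, ∃ i, s = nG F hW i := fun s hs => by
    rw [hS] at hs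
    obtain ⟨i, hi, he⟩ := hs
    exact ⟨⟨i, hi⟩, Subtype.ext (Units.ext (he.trans (coe_nR hW ⟨i, hi⟩).symm))⟩
  intro J hJS hJ hJc
  by_contra hcon
  push Not at hcon
  let Q : ℕ → Prop := fun i => ∃ h : i < D.rank, nG F hW ⟨i, h⟩ ∈ J
  have hcomm : ∀ (i j : Fin D.rank), nG F hW i ∈ J → nG F hW j ∉ J →
      linked D i j = false ∧ linked D j i = false := by
    intro i j hi hj
    refine not_linked_of_mem_borel hW hBN ?_
    have h := hcon _ hi _ ⟨hmemS j, hj⟩
    rw [hB, Subgroup.mem_subgroupOf] at h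
    simpa [nG] using h
  have hQ : ∀ i j, i < D.rank → j < D.rank → linked D i j = true → (Q i ↔ Q j) := by
    intro i j hi hj hl
    constructor
    · rintro ⟨_, hm⟩
      by_contra hn
      have := (hcomm ⟨i, hi⟩ ⟨j, hj⟩ hm fun h => hn ⟨hj, h⟩).1
      simp_all
    · rintro ⟨_, hm⟩
      by_contra hn
      have := (hcomm ⟨j, hj⟩ ⟨i, hi⟩ hm fun h => hn ⟨hi, h⟩).2
      simp_all
  have hall : ∀ j : Fin D.rank, Q j ↔ Q 0 := fun j => by
    simp only [chkIrr, List.all_eq_true, List.mem_range, List.contains_iff_mem] at hc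
    exact reachSet_invariant D Q hQ D.rank j (hc j j.isLt) j.isLt
  obtain ⟨s, hs⟩ := hJ
  obtain ⟨t, ht, htJ⟩ := hJc
  obtain ⟨i, rfl⟩ := hform s (hJS hs)
  obtain ⟨j, rfl⟩ := hform t ht
  exact htJ ((hall j).2 ((hall i).1 ⟨i.isLt, hs⟩)).2

/-- A Chevalley group with its (B, N)-pair and perfect is simple and non-abelian. -/
theorem isSimple_of_bnPair (hW : GoodWeyl D) (hrank : 0 < D.rank) (hc : chkIrr D = true)
    (hBN : D.borelSubgroup F ⊓ D.monomialSubgroup F ≤ D.diagonalSubgroup F)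
    (hperf : commutator ↥(D.group F) = ⊤)
    (P : Cfsg.BNPair ↥(D.group F)) (hB : P.B = (D.borelSubgroup F).subgroupOf (D.group F))
    (hS : P.S = {n : ↥(D.group F) | ∃ i < D.rank,
      ((n : GL D.Idx F) : Matrix D.Idx D.Idx F) = D.nMat F (D.simple i) 1}) :
    IsSimpleGroup ↥(D.group F) ∧ ¬ IsMulCommutative ↥(D.group F) := by
  have hne : Nontrivial ↥(D.group F) := by
    refine ⟨⟨X hW.good (pRoot hW ⟨0, hrank⟩) (1 : F), X_mem_group hW.good _ _⟩, 1, fun h => ?_⟩
    refine one_ne_zero (X_injective (F := F) hW.good (pRoot hW ⟨0, hrank⟩) ?_)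
    simpa [X_zero] using congrArg Subtype.val h
  refine ⟨CfsgLib.BNPairs.isSimpleGroup_of_bnPair (irreducible_of_bnPair hW hc hBN P hB hS) ?_
    hperf (hB ▸ normalCore_borel_eq_bot hW), fun h => ?_⟩
  · rw [hB]
    have := isSolvable_borel (F := F) hW
    let e := Subgroup.subgroupOfEquivOfLe (borelSubgroup_le_group (F := F) hW)
    exact Group.isSolvable_of_surjective (f := e.symm.toMonoidHom) e.symm.surjective
  · refine absurd hperf ?_
    have : commutator ↥(D.group F) = ⊥ := by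
      rw [eq_bot_iff, commutator_def]
      refine Subgroup.commutator_le.2 fun a _ b _ => ?_
      rw [Subgroup.mem_bot, commutatorElement_eq_one_iff_mul_comm]
      exact h.is_comm.comm a b
    rw [this]
    exact bot_ne_top

end CfsgLib.ChevSimple
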