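import Cfsg.Agent.Chevalley.Torus
import Mathlib.GroupTheory.Solvable

/-!
# Torus conjugation, solvability of `B`, the longest element, the core of `B`
-/

set_option autoImplicit false

namespace CfsgLib.ChevSimple

open Cfsg.Lie CfsgLib.Chevalley
open scoped MatrixGroups Pointwise

variable {D : ChevalleyDatum} {F : Type*} [Field F]

/-- The character of `torC c` at a root. -/
def chi (c : Fin D.rank → Fˣ) (r : Root D) : Fˣ := ∏ k : Fin D.rank, c k ^ D.cartan k r

/-- The diagonal entry of `torC c` at a coordinate. -/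
def chiIdx (c : Fin D.rank → Fˣ) (a : D.Idx) : Fˣ := ∏ k : Fin D.rank, c k ^ wt D k a

theorem torC_apply (c : Fin D.rank → Fˣ) :
    ((torC D c : GL D.Idx F) : Matrix D.Idx D.Idx F) = Matrix.diagonal fun a => (chiIdx c a : F) := by
  show Matrix.diagonal _ = _
  congr 1
  funext a
  rcases a with i | s
  · simp [chiIdx]
  · rfl

theorem torC_inv_apply (c : Fin D.rank → Fˣ) :
    (((torC D c)⁻¹ : GL D.Idx F) : Matrix D.Idx D.Idx F) =
      Matrix.diagonal fun a => (((chiIdx c a)⁻¹ : Fˣ) : F) := by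
  show Matrix.diagonal _ = _
  congr 1
  funext a
  rcases a with i | s
  · simp [chiIdx]
  · rfl

theorem torC_conj_X (hD : Good D) (c : Fin D.rank → Fˣ) (r : Root D) (t : F) :
    torC D c * X hD r t * (torC D c)⁻¹ = X hD r ((chi c r : F) * t) := by
  refine Units.ext ?_
  ext a b
  rw [Units.val_mul, Units.val_mul, torC_apply, torC_inv_apply, Matrix.mul_diagonal,
    Matrix.diagonal_mul, coe_X, coe_X]
  simp only [xR, Matrix.sum_apply, Matrix.smul_apply, Matrix.map_apply, smul_eq_mul,
    Finset.mul_sum, Finset.sum_mul]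
  refine Finset.sum_congr rfl fun k _ => ?_
  by_cases hE : E D r k a b = 0
  · simp [hE]
  have hχ : chiIdx c a * (chiIdx c b)⁻¹ = chi c r ^ k := by
    rw [chiIdx, chiIdx, chi, ← Finset.prod_inv_distrib, ← Finset.prod_mul_distrib,
      ← Finset.prod_pow]
    refine Finset.prod_congr rfl fun j _ => ?_
    rw [hD.wt_of_E_ne_zero r k j hE, zpow_add, mul_assoc, mul_comm, mul_assoc, inv_mul_cancel,
      mul_one, ← zpow_natCast (c j ^ D.cartan j r) k, ← zpow_mul, mul_comm]
  have h := congrArg Units.val hχ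
  rw [Units.val_mul, Units.val_pow_eq_pow_val] at h
  rw [mul_pow, ← h]
  ring

theorem hT_mem_group (hW : GoodWeyl D) (r : Root D) (t : Fˣ) : hT F r t ∈ D.group F := by
  rw [← hElt_eq hW]
  simp only [nElt]
  refine mul_mem (mul_mem (mul_mem ?_ ?_) ?_) (mul_mem (mul_mem ?_ ?_) ?_) <;>
    exact X_mem_group hW.good _ _

theorem torC_mem_group (hW : GoodWeyl D) (c : Fin D.rank → Fˣ) : torC D c ∈ D.group F := by
  rw [torC_eq_prod hW]
  refine Subgroup.list_prod_mem _ fun x hx => ?_
  obtain ⟨k, -, rfl⟩ := List.mem_map.1 hx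
  exact hT_mem_group hW _ _

theorem borelSubgroup_le_group (hW : GoodWeyl D) : D.borelSubgroup F ≤ D.group F := by
  refine sup_le ?_ ?_
  · rw [posUnipotent_eq_closure hW.good, Subgroup.closure_le]
    rintro _ ⟨r, -, t, rfl⟩
    exact X_mem_group hW.good r t
  · rw [diagonalSubgroup_eq_range hW]
    rintro _ ⟨c, rfl⟩
    exact torC_mem_group hW c

theorem diagonal_le_normalizer (hW : GoodWeyl D) :
    D.diagonalSubgroup F ≤ Subgroup.normalizer (D.posUnipotent F : Set (GL D.Idx F)) := by
  rw [diagonalSubgroup_eq_range hW]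
  rintro _ ⟨c, rfl⟩
  have key : ∀ c : Fin D.rank → Fˣ, ∀ u ∈ D.posUnipotent F,
      torHom D F c * u * (torHom D F c)⁻¹ ∈ D.posUnipotent F := by
    intro c u hu
    rw [posUnipotent_eq_closure hW.good] at hu ⊢
    induction hu using Subgroup.closure_induction with
    | mem x hx =>
      obtain ⟨r, hr, t, rfl⟩ := hx
      show torC D c * X hW.good r t * (torC D c)⁻¹ ∈ _
      rw [torC_conj_X]
      exact Subgroup.subset_closure ⟨r, hr, _, rfl⟩
    | one => simp
    | mul x y _ _ hx hy => rw [← conj_mul]; exact mul_mem hx hy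
    | inv x _ hx => rw [← conj_inv]; exact inv_mem hx
  refine Subgroup.mem_normalizer_iff.2 fun u => ⟨key c u, fun h => ?_⟩
  have := key c⁻¹ _ h
  simpa [map_inv, mul_assoc] using this

/-- `B` is solvable. -/
theorem isSolvable_borel (hW : GoodWeyl D) : Group.IsSolvable ↥(D.borelSubgroup F) := by
  have hC : GoodComm D := hW.toGoodComm
  let B := D.borelSubgroup F
  have hU : D.posUnipotent F ≤ B := le_sup_left
  have hn : ((D.posUnipotent F).subgroupOf B).Normal :=
    (Subgroup.normal_subgroupOf_iff_le_normalizer hU).2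
      (sup_le Subgroup.le_normalizer (diagonal_le_normalizer hW))
  have hUs : Group.IsSolvable ((D.posUnipotent F).subgroupOf B) := by
    have hnil : Group.IsNilpotent (D.posUnipotent F) := by
      rw [posUnipotent_eq hW.good]
      exact isNilpotent_uGe hC
    have : Group.IsSolvable (D.posUnipotent F) := inferInstance
    exact Group.isSolvable_of_surjective (f := (Subgroup.subgroupOfEquivOfLe hU).symm.toMonoidHom)
      (Subgroup.subgroupOfEquivOfLe hU).symm.surjective
  let ι : ↥(D.diagonalSubgroup F) →* B ⧸ (D.posUnipotent F).subgroupOf B :=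
    (QuotientGroup.mk' _).comp (Subgroup.inclusion le_sup_right)
  have hsurj : Function.Surjective ι := by
    intro y
    obtain ⟨⟨g, hg⟩, rfl⟩ := QuotientGroup.mk_surjective y
    have hg' : g ∈ (D.posUnipotent F : Set (GL D.Idx F)) * (D.diagonalSubgroup F : Set (GL D.Idx F)) := by
      rw [← Subgroup.coe_mul_of_right_le_normalizer_left _ _ (diagonal_le_normalizer (F := F) hW)]
      exact hg
    obtain ⟨u, hu, d, hd, rfl⟩ := Set.mem_mul.1 hg'
    refine ⟨⟨d, hd⟩, ?_⟩
    refine QuotientGroup.eq.2 ?_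
    show d⁻¹ * (u * d) ∈ D.posUnipotent F
    have := (Subgroup.mem_normalizer_iff.1 (diagonal_le_normalizer hW (inv_mem hd)) u).1 hu
    simpa [mul_assoc] using this
  have hab : ∀ a b : ↥(D.diagonalSubgroup F), a * b = b * a := by
    intro a b
    have ha : (a : GL D.Idx F) ∈ (torHom D F).range := diagonalSubgroup_eq_range (F := F) hW ▸ a.2
    have hb : (b : GL D.Idx F) ∈ (torHom D F).range := diagonalSubgroup_eq_range (F := F) hW ▸ b.2
    obtain ⟨c, hc⟩ := ha
    obtain ⟨d, hd⟩ := hb
    refine Subtype.ext ?_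
    show (a : GL D.Idx F) * b = b * a
    rw [← hc, ← hd, ← map_mul, ← map_mul, mul_comm]
  have hHs : Group.IsSolvable ↥(D.diagonalSubgroup F) := Group.isSolvable_of_comm hab
  have : Group.IsSolvable (B ⧸ (D.posUnipotent F).subgroupOf B) :=
    Group.isSolvable_of_surjective hsurj
  exact Group.isSolvable_of_ker_le_range ((D.posUnipotent F).subgroupOf B).subtype
    (QuotientGroup.mk' ((D.posUnipotent F).subgroupOf B))
    (by rw [QuotientGroup.ker_mk', Subgroup.range_subtype])

theorem coroot_nonneg (hD : Good D) {r : Root D} (hr : half D ≤ r) (k : ℕ) :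
    0 ≤ (D.coroot.getD r #[]).getD k 0 := by
  obtain ⟨-, hc⟩ := hD.isPosRoot_iff.2 ⟨hr, r.isLt⟩
  rw [Array.getD_eq_getD_getElem?, ← Array.getElem?_toList]
  cases h : (D.coroot.getD r #[]).toList[k]? with
  | none => simp
  | some c => simpa using hc c (List.mem_of_getElem? h)

/-- The sum of the coroot coefficients. -/
def coSum (D : ChevalleyDatum) (r : ℕ) : ℤ := ∑ k : Fin D.rank, (D.coroot.getD r #[]).getD k 0

theorem coroot_wPerm (hW : GoodWeyl D) (i j : Fin D.rank) (r : Root D) :
    (D.coroot.getD (wPerm hW i r) #[]).getD j 0 = (D.coroot.getD r #[]).getD j 0 -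
      if i = j then D.pairing r (pRoot hW i) else 0 := by
  have h := (((hW.refl_facts i).2.2.2.2 r r.isLt).2.2.2.2.2.2.2 j j.isLt).2
  rw [coT_eq, coT_eq] at h
  refine Eq.trans h (congrArg₂ _ rfl (if_congr Fin.ext_iff.symm ?_ rfl))
  rw [ChevalleyDatum.pairing]
  congr 1
  apply List.map_congr_left
  intro k hk
  rw [coT_eq, hW.good.cartanT_eq (List.mem_range.1 hk) (hW.good.simple_lt i.isLt)]
  rfl

theorem coSum_wPerm (hW : GoodWeyl D) (i : Fin D.rank) (r : Root D) :
    coSum D (wPerm hW i r) = coSum D r - D.pairing r (pRoot hW i) := by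
  simp only [coSum, coroot_wPerm hW, Finset.sum_sub_distrib, Finset.sum_ite_eq, Finset.mem_univ,
    if_true]

theorem coSum_pos (hD : Good D) {r : Root D} (hr : half D ≤ r) : 0 < coSum D r := by
  have hnn : ∀ k : Fin D.rank, 0 ≤ (D.coroot.getD r #[]).getD k 0 := fun k => coroot_nonneg hD hr k
  obtain ⟨i, hi⟩ := hD.exists_coroot_ne r
  exact lt_of_lt_of_le ((hnn i).lt_of_ne hi.symm)
    (Finset.single_le_sum (fun k _ => hnn k) (Finset.mem_univ i))

theorem pos_iff_coSum (hD : Good D) (r : Root D) : half D ≤ r ↔ 0 < coSum D r := by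
  refine ⟨coSum_pos hD, fun h => ?_⟩
  by_contra hc
  have hh := hD.two_half
  have h' := coSum_pos hD (r := r.rev) (by rw [Fin.val_rev]; omega)
  simp only [coSum, hD.coroot_rev, Finset.sum_neg_distrib] at h h'
  omega

/-- `g` permutes the root subgroups by `π`, which is given by a linear map on coroots. -/
structure Perms (hW : GoodWeyl D) (g : GL D.Idx F) (π : Equiv.Perm (Root D)) : Prop where
  mem_group : g ∈ D.group F
  mem_monomial : g ∈ D.monomialSubgroup F
  conj : ∀ r, ∃ η : F, η ≠ 0 ∧ ∀ t, g * X hW.good r t * g⁻¹ = X hW.good (π r) (η * t)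
  linear : ∀ r, coSum D (π r) =
    ∑ k : Fin D.rank, (D.coroot.getD r #[]).getD k 0 * coSum D (π (pRoot hW k))

theorem nR_mem (hW : GoodWeyl D) (i : Fin D.rank) :
    (nR hW i : GL D.Idx F) ∈ D.group F ∧ (nR hW i : GL D.Idx F) ∈ D.monomialSubgroup F := by
  refine ⟨mul_mem (mul_mem ?_ ?_) ?_, Subgroup.mem_sup_right (Subgroup.subset_closure
    ⟨D.simple i, hW.good.simple_lt i.isLt, coe_nR hW i⟩)⟩ <;> exact X_mem_group hW.good _ _

theorem eta_ne_zero (hW : GoodWeyl D) (i : Fin D.rank) (r : Root D) :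
    ((eta D i r : ℤ) : F) ≠ 0 := by
  rcases mul_self_eq_one_iff.1 (hW.eta_sq i r) with h | h <;> simp [h]

theorem Perms.one (hW : GoodWeyl D) : Perms hW (1 : GL D.Idx F) 1 := by
  refine ⟨one_mem _, one_mem _, fun r => ⟨1, one_ne_zero, fun t => by simp⟩, fun r => ?_⟩
  simp only [Equiv.Perm.one_apply]
  rw [coSum]
  refine Finset.sum_congr rfl fun k _ => ?_
  rw [show coSum D (pRoot hW k) = 1 by
    simp only [coSum, show ((pRoot hW k : Root D) : ℕ) = D.simple k from rfl,
      fun j : Fin D.rank => hW.good.coroot_simple k.isLt j.isLt, Fin.val_inj,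
      Finset.sum_ite_eq, Finset.mem_univ, if_true], mul_one]

theorem Perms.step {hW : GoodWeyl D} {g : GL D.Idx F} {π : Equiv.Perm (Root D)} (h : Perms hW g π)
    (i : Fin D.rank) : Perms hW (g * nR hW i) (π * wPerm hW i) := by
  refine ⟨mul_mem h.mem_group (nR_mem hW i).1, mul_mem h.mem_monomial (nR_mem hW i).2,
    fun r => ?_, fun r => ?_⟩
  · obtain ⟨η, hη, he⟩ := h.conj (wPerm hW i r)
    refine ⟨η * (eta D i r : F), mul_ne_zero hη (eta_ne_zero hW i r), fun t => ?_⟩
    rw [show g * nR hW i * X hW.good r t * (g * nR hW i)⁻¹ =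
      g * (nR hW i * X hW.good r t * (nR hW i)⁻¹) * g⁻¹ by group, nR_conj, he, mul_assoc]
    rfl
  · have hp : ∀ k, coSum D (π (wPerm hW i (pRoot hW k))) = coSum D (π (pRoot hW k)) -
        D.cartan k (pRoot hW i) * coSum D (π (pRoot hW i)) := by
      intro k
      rw [h.linear]
      have hpk : D.pairing (D.simple k) (pRoot hW i) = D.cartan k (pRoot hW i) :=
        hW.pairing_pRoot k (pRoot hW i)
      simp only [coroot_wPerm hW, hpk, show ((pRoot hW k : Root D) : ℕ) = D.simple k from rfl,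
        fun j : Fin D.rank => hW.good.coroot_simple k.isLt j.isLt, Fin.val_inj, sub_mul, ite_mul,
        one_mul, zero_mul, Finset.sum_sub_distrib, Finset.sum_ite_eq, Finset.mem_univ, if_true]
    simp only [Equiv.Perm.mul_apply, h.linear (wPerm hW i r), hp, mul_sub,
      Finset.sum_sub_distrib, coroot_wPerm hW, sub_mul, ite_mul, zero_mul, Finset.sum_ite_eq,
      Finset.mem_univ, if_true, ← mul_assoc, ← Finset.sum_mul, ← pairing_eq_sum]

/-- There is a monomial element of the group sending every positive root to a negative one. -/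
theorem exists_longest (hW : GoodWeyl D) (F : Type*) [Field F] :
    ∃ (g : GL D.Idx F) (π : Equiv.Perm (Root D)), Perms hW g π ∧
      ∀ r : Root D, half D ≤ r ↔ (π r : ℕ) < half D := by
  classical
  let inv : Equiv.Perm (Root D) → Finset (Root D) := fun π =>
    Finset.univ.filter fun r => half D ≤ r ∧ (π r : ℕ) < half D
  let S : Set (Equiv.Perm (Root D)) := {π | ∃ g : GL D.Idx F, Perms hW g π}
  obtain ⟨π, ⟨g, hg⟩, hmax⟩ := S.toFinite.exists_maximalFor (fun π => (inv π).card) S
    ⟨1, 1, Perms.one hW⟩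
  have hsimple : ∀ i, (π (pRoot hW i) : ℕ) < half D := by
    intro i
    by_contra hc
    push Not at hc
    have hp : half D ≤ (pRoot hW i : ℕ) := hW.good.half_le_simple i.isLt
    have hnot : pRoot hW i ∉ inv π := by simp [inv]; omega
    have hsub : (insert (pRoot hW i) ((inv π).image (wPerm hW i))) ⊆ inv (π * wPerm hW i) := by
      intro r hr
      rcases Finset.mem_insert.1 hr with rfl | hr
      · refine Finset.mem_filter.2 ⟨Finset.mem_univ _, hp, ?_⟩
        show (π (wPerm hW i (pRoot hW i)) : ℕ) < half D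
        rw [hW.wPerm_pRoot]
        by_contra hn
        push Not at hn
        have h1 := coSum_pos hW.good hn
        have h2 := coSum_pos hW.good hc
        rw [hg.linear] at h1 h2
        simp only [hW.good.coroot_rev, neg_mul, Finset.sum_neg_distrib] at h1
        omega
      · obtain ⟨s, hs, rfl⟩ := Finset.mem_image.1 hr
        obtain ⟨-, hs1, hs2⟩ := Finset.mem_filter.1 hs
        refine Finset.mem_filter.2 ⟨Finset.mem_univ _,
          (hW.wPerm_pos i hs1 (fun e => hnot (e ▸ hs))).1, ?_⟩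
        show (π (wPerm hW i (wPerm hW i s)) : ℕ) < half D
        rwa [hW.wPerm_wPerm]
    have hcard := Finset.card_le_card hsub
    rw [Finset.card_insert_of_notMem (fun h => by
      obtain ⟨s, hs, e⟩ := Finset.mem_image.1 h
      obtain ⟨-, hs1, -⟩ := Finset.mem_filter.1 hs
      exact (hW.wPerm_pos i hs1 (fun e' => hnot (e' ▸ hs))).2 e),
      Finset.card_image_of_injective _ (wPerm hW i).injective] at hcard
    have h1 : π * wPerm hW i ∈ S := ⟨_, hg.step i⟩
    have h2 := hmax h1 (show (inv π).card ≤ (inv (π * wPerm hW i)).card by omega)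
    simp only at h2
    omega
  have hneg : ∀ r : Root D, half D ≤ r → (π r : ℕ) < half D := by
    intro r hr
    by_contra hc
    push Not at hc
    have h1 := coSum_pos hW.good hc
    rw [hg.linear] at h1
    refine absurd h1 (not_lt.2 (Finset.sum_nonpos fun k _ => mul_nonpos_of_nonneg_of_nonpos ?_ ?_))
    · exact coroot_nonneg hW.good hr k
    · by_contra hpos
      push Not at hpos
      have := (pos_iff_coSum hW.good _).2 hpos
      have := hsimple k
      omega
  refine ⟨g, π, hg, fun r => ⟨hneg r, fun hr => ?_⟩⟩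
  by_contra hc
  push Not at hc
  have hh := hW.good.two_half
  have hlin : coSum D (π r) = -coSum D (π r.rev) := by
    rw [hg.linear, hg.linear r.rev]
    simp only [hW.good.coroot_rev, neg_mul, Finset.sum_neg_distrib, neg_neg]
  have h1 := hneg r.rev (by rw [Fin.val_rev]; omega)
  have h2 : ¬ 0 < coSum D (π r.rev) := fun hp => by
    have := (pos_iff_coSum hW.good _).2 hp; omega
  have h3 : ¬ 0 < coSum D (π r) := fun hp => by
    have := (pos_iff_coSum hW.good _).2 hp; omega
  have h4 : coSum D (π r) ≠ 0 := fun h0 => by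
    rcases Nat.lt_or_ge (π r : ℕ) (half D) with hlt | hge
    · have := coSum_pos hW.good (r := (π r).rev) (by rw [Fin.val_rev]; omega)
      simp only [coSum, hW.good.coroot_rev, Finset.sum_neg_distrib] at this h0
      omega
    · omega
  omega

theorem ord_true_eq (hD : Good D) (a : D.Idx) : ord true a + ord false a = D.nroots := by
  have hh := hD.two_half
  rcases a with i | r
  · simp [ord]; omega
  · have := r.isLt
    simp only [ord, Sum.elim_inr, key, Bool.false_eq_true, if_false, if_true, Fin.val_rev]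
    split_ifs <;> omega

/-- An element both lower and upper unitriangular up to a diagonal factor. -/
theorem eq_one_of_lower_upper (hD : Good D) {u v d : Matrix D.Idx D.Idx F} (hu : IsLower false u)
    (hv : IsLower true v) (hd : ∀ a b, a ≠ b → d a b = 0) (h : u = v * d) : u = 1 := by
  ext a b
  by_cases hab : a = b
  · subst hab; rw [hu.1, Matrix.one_apply_eq]
  rw [Matrix.one_apply_ne hab]
  by_cases hle : ord false a ≤ ord false b
  · exact hu.2 a b hab hle
  rw [h, Matrix.mul_apply, Finset.sum_eq_single b]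
  · have h1 := ord_true_eq hD a
    have h2 := ord_true_eq hD b
    rw [hv.2 a b hab (by omega), zero_mul]
  · intro x _ hx
    rw [hd x b hx, mul_zero]
  · simp

theorem map_conj_posUnipotent (hW : GoodWeyl D) {g : GL D.Idx F} {π : Equiv.Perm (Root D)}
    (hg : Perms hW g π) (hπ : ∀ r : Root D, half D ≤ r ↔ (π r : ℕ) < half D) :
    (D.posUnipotent F).map (MulAut.conj g).toMonoidHom = D.negUnipotent F := by
  rw [posUnipotent_eq_closure hW.good, negUnipotent_eq_closure hW.good, MonoidHom.map_closure]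
  congr 1
  ext x
  constructor
  · rintro ⟨_, ⟨r, hr, t, rfl⟩, rfl⟩
    obtain ⟨η, -, he⟩ := hg.conj r
    exact ⟨π r, (hπ r).1 hr, η * t, (he t).symm⟩
  · rintro ⟨s, hs, t, rfl⟩
    obtain ⟨r, rfl⟩ := π.surjective s
    obtain ⟨η, hη, he⟩ := hg.conj r
    refine ⟨_, ⟨r, (hπ r).2 hs, t / η, rfl⟩, ?_⟩
    show g * X hW.good r (t / η) * g⁻¹ = _
    rw [he, mul_div_cancel₀ t hη]

theorem exists_monomial_conj_neg (hW : GoodWeyl D) :
    ∃ n ∈ D.monomialSubgroup F,
      (D.posUnipotent F).map (MulAut.conj n).toMonoidHom = D.negUnipotent F := by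
  obtain ⟨g, π, hg, hπ⟩ := exists_longest hW F
  exact ⟨g, hg.mem_monomial, map_conj_posUnipotent hW hg hπ⟩

theorem torC_offdiag (c : Fin D.rank → Fˣ) {a b : D.Idx} (h : a ≠ b) :
    ((torC D c : GL D.Idx F) : Matrix D.Idx D.Idx F) a b = 0 := by
  rw [torC_apply, Matrix.diagonal_apply_ne _ h]

theorem nR_conj_diagonal (hW : GoodWeyl D) (i : Fin D.rank) {x : GL D.Idx F}
    (hx : x ∈ D.diagonalSubgroup F) : nR hW i * x * (nR hW i)⁻¹ ∈ D.diagonalSubgroup F := by
  rw [diagonalSubgroup_eq hW] at hx ⊢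
  induction hx using Subgroup.closure_induction with
  | mem y hy =>
    obtain ⟨r, t, rfl⟩ := hy
    rw [nR_conj_hT]
    exact Subgroup.subset_closure ⟨_, _, rfl⟩
  | one => simp
  | mul x y _ _ hx hy => rw [← conj_mul]; exact mul_mem hx hy
  | inv x _ hx => rw [← conj_inv]; exact inv_mem hx

theorem nR_mem_normalizer (hW : GoodWeyl D) (i : Fin D.rank) :
    (nR hW i : GL D.Idx F) ∈ Subgroup.normalizer (D.diagonalSubgroup F : Set (GL D.Idx F)) := by
  refine Subgroup.mem_normalizer_iff.2 fun x => ⟨nR_conj_diagonal hW i, fun h => ?_⟩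
  have hs : nR hW i * nR hW i ∈ D.diagonalSubgroup F := by
    rw [nR_sq]; exact hT_mem_diagonal hW _ _
  have h1 := nR_conj_diagonal hW i h
  rw [show nR hW i * (nR hW i * x * (nR hW i)⁻¹) * (nR hW i)⁻¹ =
    (nR hW i * nR hW i) * x * (nR hW i * nR hW i)⁻¹ by group] at h1
  simpa [mul_assoc] using mul_mem (mul_mem (inv_mem hs) h1) hs

theorem monomial_le_normalizer (hW : GoodWeyl D) :
    D.monomialSubgroup F ≤ Subgroup.normalizer (D.diagonalSubgroup F : Set (GL D.Idx F)) := by
  refine sup_le Subgroup.le_normalizer ((Subgroup.closure_le _).2 ?_)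
  rintro x ⟨r, hr, hx⟩
  have : x = nElt hW.good ⟨r, hr⟩ 1 := by
    refine Units.ext (hx.trans ?_)
    rw [ChevalleyDatum.nMat, ← coe_wordGL hW.good, ChevalleyDatum.nWord, hW.good.neg_fin ⟨r, hr⟩]
    congr 1
    have := wordGL_cons hW.good (R := F) ⟨r, hr⟩
    rw [show ((⟨r, hr⟩ : Root D) : ℕ) = r from rfl] at this
    rw [this, show ((⟨r, hr⟩ : Root D).rev : ℕ) = ((⟨r, hr⟩ : Root D).rev : ℕ) from rfl,
      wordGL_cons hW.good, this, nElt]
    simp [wordGL, mul_assoc]
  rw [this]
  refine hW.root_induction (P := fun r => (nElt hW.good r (1 : Fˣ) : GL D.Idx F) ∈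
    Subgroup.normalizer (D.diagonalSubgroup F : Set (GL D.Idx F))) (fun i => ?_) (fun i s hs => ?_) _
  · rw [nElt_one]; exact nR_mem_normalizer hW i
  · obtain ⟨c, hc⟩ : ∃ c : Fˣ, (c : F) = (eta D i s : F) := ⟨Units.mk0 _ (eta_ne_zero hW i s), rfl⟩
    have h1 := nElt_conj hW i s (1 : Fˣ) c hc
    have h2 := mul_mem (mul_mem (nR_mem_normalizer hW i) hs) (inv_mem (nR_mem_normalizer hW i))
    rw [h1, mul_one] at h2
    rcases mul_self_eq_one_iff.1 (hW.eta_sq i s) with h | h
    · rwa [show c = 1 from Units.ext (by rw [hc, h]; simp)] at h2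
    · rw [show c = -1 from Units.ext (by rw [hc, h]; simp), nElt_neg] at h2
      exact inv_mem_iff.1 h2

/-- The intersection of the conjugates of `B` in the group is trivial. -/
theorem normalCore_borel_eq_bot (hW : GoodWeyl D) :
    ((D.borelSubgroup F).subgroupOf (D.group F)).normalCore = ⊥ := by
  classical
  have hD := hW.good
  set K := ((D.borelSubgroup F).subgroupOf (D.group F)).normalCore with hK
  obtain ⟨g, π, hg, hπ⟩ := exists_longest hW F
  have hdec : ∀ y : GL D.Idx F, y ∈ D.borelSubgroup F →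
      ∃ u ∈ D.posUnipotent F, ∃ c, u * torC D c = y := by
    intro y hy
    have hy' : y ∈ (D.posUnipotent F : Set (GL D.Idx F)) * (D.diagonalSubgroup F : Set (GL D.Idx F)) := by
      rw [← Subgroup.coe_mul_of_right_le_normalizer_left _ _ (diagonal_le_normalizer (F := F) hW)]
      exact hy
    obtain ⟨u, hu, d, hd, rfl⟩ := Set.mem_mul.1 hy'
    rw [SetLike.mem_coe, diagonalSubgroup_eq_range hW] at hd
    obtain ⟨c, rfl⟩ := hd
    exact ⟨u, hu, c, rfl⟩
  have hKB : ∀ x : D.group F, x ∈ K → (x : GL D.Idx F) ∈ D.borelSubgroup F :=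
    fun x hx => Subgroup.normalCore_le ((D.borelSubgroup F).subgroupOf (D.group F)) hx
  have hdiag : ∀ x : D.group F, x ∈ K → ∃ c, torC D c = (x : GL D.Idx F) := by
    intro x hx
    obtain ⟨u, hu, c, hc⟩ := hdec _ (hKB x hx)
    let gg : D.group F := ⟨g, hg.mem_group⟩
    have hy := (Subgroup.normalCore_normal _).conj_mem x hx gg⁻¹
    obtain ⟨u₂, hu₂, c₂, hc₂⟩ := hdec _ (hKB _ hy)
    have hc₂' : u₂ * torC D c₂ = g⁻¹ * (x : GL D.Idx F) * g := by simpa using hc₂
    have hv : g * u₂ * g⁻¹ ∈ D.negUnipotent F := by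
      rw [← map_conj_posUnipotent hW hg hπ]
      exact ⟨u₂, hu₂, rfl⟩
    obtain ⟨c', hc'⟩ : ∃ c', torC D c' = g * torC D c₂ * g⁻¹ := by
      have hd : g * torC D c₂ * g⁻¹ ∈ D.diagonalSubgroup F := by
        refine (Subgroup.mem_normalizer_iff.1 ?_ _).1 (by rw [diagonalSubgroup_eq_range hW]; exact ⟨c₂, rfl⟩)
        exact monomial_le_normalizer hW hg.mem_monomial
      rw [diagonalSubgroup_eq_range hW] at hd
      exact hd
    refine ⟨c, ?_⟩
    have hx1 : u * torC D c = g * u₂ * g⁻¹ * torC D c' := by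
      rw [hc, hc', show g * u₂ * g⁻¹ * (g * torC D c₂ * g⁻¹) = g * (u₂ * torC D c₂) * g⁻¹ by group,
        hc₂']
      group
    have hu1 : u = 1 := by
      refine Units.ext (eq_one_of_lower_upper hD
        (v := ((g * u₂ * g⁻¹ : GL D.Idx F) : Matrix D.Idx D.Idx F))
        (d := ((torC D (c' * c⁻¹) : GL D.Idx F) : Matrix D.Idx D.Idx F)) ?_ ?_
        (fun a b h => torC_offdiag _ h) ?_)
      · exact isLower_of_mem hD (m := half D) (by rw [← posUnipotent_eq hD]; exact hu)
      · refine isLower_of_mem hD (m := half D) ?_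
        rw [← negUnipotent_eq hD]; exact hv
      · rw [← Units.val_mul]
        congr 1
        rw [show torC D (c' * c⁻¹) = torC D c' * (torC D c : GL D.Idx F)⁻¹ from
          (map_mul (torHom D F) c' c⁻¹).trans (congrArg _ (map_inv (torHom D F) c))]
        rw [← mul_assoc, ← hx1, mul_inv_cancel_right]
    rw [← hc, hu1, one_mul]
  rw [Subgroup.eq_bot_iff_forall]
  intro x hx
  obtain ⟨c, hc⟩ := hdiag x hx
  have hpos : ∀ r : Root D, half D ≤ r → chi c r = 1 := by
    intro r hr
    let y : D.group F := ⟨X hD r 1, X_mem_group hD r 1⟩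
    have hz : x * y * x⁻¹ * y⁻¹ ∈ K := by
      have h1 := (Subgroup.normalCore_normal _).conj_mem x⁻¹ (inv_mem hx) y
      have h2 := mul_mem hx h1
      simpa [mul_assoc] using h2
    obtain ⟨d, hd⟩ := hdiag _ hz
    have hcalc : ((x * y * x⁻¹ * y⁻¹ : D.group F) : GL D.Idx F) = X hD r ((chi c r : F) - 1) := by
      show (x : GL D.Idx F) * X hD r 1 * (x : GL D.Idx F)⁻¹ * (X hD r 1)⁻¹ = _
      rw [← hc, torC_conj_X, mul_one, X_inv, X_mul, sub_eq_add_neg]
    rw [hcalc] at hd
    have h1 : X hD r ((chi c r : F) - 1) = 1 := by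
      refine Units.ext (eq_one_of_lower_upper hD (v := (1 : Matrix D.Idx D.Idx F))
        (d := ((torC D d : GL D.Idx F) : Matrix D.Idx D.Idx F)) ?_ (IsLower.one _)
        (fun a b h => torC_offdiag _ h) ?_)
      · exact hD.isLower_xR (b := false) hr _
      · rw [one_mul, hd]
    rw [← X_zero hD r] at h1
    exact Units.ext (sub_eq_zero.1 (X_injective hD r h1))
  have hall : ∀ s : Root D, chi c s = 1 := by
    intro s
    rcases Nat.lt_or_ge (s : ℕ) (half D) with h | h
    · have hh := hD.two_half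
      have h1 := hpos s.rev (by rw [Fin.val_rev]; omega)
      rw [chi] at h1 ⊢
      rw [← inv_inj, inv_one, ← Finset.prod_inv_distrib, ← h1]
      exact Finset.prod_congr rfl fun k _ => by rw [hD.cartan_rev, zpow_neg]
    · exact hpos s h
  refine Subtype.ext ?_
  rw [← hc, OneMemClass.coe_one, ← tor_one, torC]
  congr 1
  funext s
  exact hall s

end CfsgLib.ChevSimple
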