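import Cfsg.Agent.ChevSimple.Simple
import Cfsg.Agent.ChevSimple.Perfect
import Cfsg.Agent.Chevalley.WeylData
import Cfsg.Agent.Weyl.RootG2
import Cfsg.Agent.Weyl.RootB2
import Cfsg.Agent.Weyl.RootD4
import Cfsg.Agent.Weyl.RootF4
import Cfsg.Agent.Weyl.RootE6
import Cfsg.Agent.Weyl.RootE7
import Cfsg.Agent.Weyl.RootE8

/-!
# `B ∩ N = H` and simplicity for the seven data
-/

set_option autoImplicit false

namespace CfsgLib.ChevSimple

open Cfsg.Lie CfsgLib.Chevalley

variable {D : ChevalleyDatum} {F : Type*} [Field F]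

theorem borel_inf_monomial_of_mem
    (hD : D ∈ [chevG2, chevB2, chevD4, chevF4, chevE6, chevE7, chevE8]) :
    D.borelSubgroup F ⊓ D.monomialSubgroup F = D.diagonalSubgroup F := by
  have hW := goodWeyl_of_mem hD
  simp only [List.mem_cons, List.not_mem_nil, or_false] at hD
  rcases hD with rfl | rfl | rfl | rfl | rfl | rfl | rfl
  exacts [borel_inf_monomial hW CfsgLib.Weyl.rootG2_good,
    borel_inf_monomial hW CfsgLib.Weyl.rootB2_good, borel_inf_monomial hW CfsgLib.Weyl.rootD4_good,
    borel_inf_monomial hW CfsgLib.Weyl.rootF4_good, borel_inf_monomial hW CfsgLib.Weyl.rootE6_good,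
    borel_inf_monomial hW CfsgLib.Weyl.rootE7_good, borel_inf_monomial hW CfsgLib.Weyl.rootE8_good]

theorem rank_pos_of_mem
    (hD : D ∈ [chevG2, chevB2, chevD4, chevF4, chevE6, chevE7, chevE8]) : 0 < D.rank := by
  simp only [List.mem_cons, List.not_mem_nil, or_false] at hD
  rcases hD with rfl | rfl | rfl | rfl | rfl | rfl | rfl <;> decide

/-- Simplicity from the (B, N)-pair and perfectness. -/
theorem isSimple_of_mem (hD : D ∈ [chevG2, chevB2, chevD4, chevF4, chevE6, chevE7, chevE8])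
    (hperf : commutator ↥(D.group F) = ⊤)
    (h : ∃ P : Cfsg.BNPair ↥(D.group F),
      P.B = (D.borelSubgroup F).subgroupOf (D.group F) ∧
      P.N = (D.monomialSubgroup F).subgroupOf (D.group F) ∧
      P.S = {n : ↥(D.group F) | ∃ i < D.rank,
        ((n : GL D.Idx F) : Matrix D.Idx D.Idx F) = D.nMat F (D.simple i) 1}) :
    IsSimpleGroup ↥(D.group F) ∧ ¬ IsMulCommutative ↥(D.group F) := by
  obtain ⟨P, hB, -, hS⟩ := h
  exact isSimple_of_bnPair (goodWeyl_of_mem hD) (rank_pos_of_mem hD) (chkIrr_of_mem hD)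
    (borel_inf_monomial_of_mem hD).le hperf P hB hS

/-- Perfectness away from `G₂(2)` and `B₂(2)`. -/
theorem perfect_of_mem_big (hD : D ∈ [chevD4, chevF4, chevE6, chevE7, chevE8]) :
    commutator ↥(D.group F) = ⊤ :=
  commutator_eq_top_of_all (goodWeyl_of_mem (List.mem_cons_of_mem _ (List.mem_cons_of_mem _ hD)))
    (chkPerfectAll_of_mem hD)

/-- Perfectness of `G₂` and `B₂` over a field with more than two elements. -/
theorem perfect_of_mem_small (hD : D ∈ [chevG2, chevB2]) (hF : ∃ a : F, a ≠ 0 ∧ a ≠ 1) :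
    commutator ↥(D.group F) = ⊤ :=
  commutator_eq_top_of_big
    (goodWeyl_of_mem (by simp only [List.mem_cons, List.not_mem_nil, or_false] at hD ⊢; tauto))
    (chkPerfectBig_of_mem hD) hF

end CfsgLib.ChevSimple
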